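import Groth.Agent.Fano.K105.ConeDim

/-!
# The cone of lines through a point of a general hypersurface (node H1 of S16940)

`lineIdeal φ G a` is the ideal generated by the coefficients in `t` of `G(a + t b)`, `b` the generic vector.
For a `Good` form `G` and every `v ≠ 0` with `G(v) = 0` the quotient by it has dimension at most `n + 1 - d`.
-/

set_option autoImplicit false

universe u

open MvPolynomial

namespace K948.FanoConeDim

open K188.LineDef K188.LineRing

section Dehom

variable {A : Type*} [CommRing A]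

/-- A binary form vanishes when its dehomogenization does. -/
theorem eq_zero_of_dehom {d : ℕ} {P : MvPolynomial (Fin 2) A} (hP : P.IsHomogeneous d)
    (h : eval₂ Polynomial.C ![1, Polynomial.X] P = 0) : P = 0 := by
  ext e
  rw [coeff_zero]
  by_cases he : e 0 + e 1 = d
  · have h1 := congrArg (fun q : Polynomial A => q.coeff (e 1)) h
    simp only [eval₂_eq', Fin.prod_univ_two, Matrix.cons_val_zero, Matrix.cons_val_one, one_pow, one_mul,
      Polynomial.finsetSum_coeff, Polynomial.coeff_C_mul_X_pow, Polynomial.coeff_zero] at h1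
    rw [Finset.sum_eq_single e] at h1
    · simpa using h1
    · intro m hm hne
      rw [if_neg]
      intro h2
      apply hne
      have h3 : m 0 + m 1 = d := by
        by_contra h4
        exact (mem_support_iff.1 hm) (hP.coeff_eq_zero (by rwa [K105.ConeDim.degree_fin2]))
      ext a
      fin_cases a
      · change m 0 = e 0
        omega
      · exact h2.symm
    · intro hm
      rw [notMem_support_iff.1 hm]
      simp
  · exact hP.coeff_eq_zero (by rwa [K105.ConeDim.degree_fin2])

end Dehom

variable {k : Type u} [Field k] {n d : ℕ}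

/-- `G(v + t b)`, a polynomial in `t`. -/
noncomputable def alongLine {A : Type*} [CommRing A] (φ : k →+* A) (G : MvPolynomial (Fin (n + 1)) k)
    (v b : Fin (n + 1) → A) : Polynomial A :=
  eval₂ (Polynomial.C.comp φ) (fun i => Polynomial.C (v i) + Polynomial.X * Polynomial.C (b i)) G

/-- The ideal generated by the coefficients of `G(v + t b)`, `b` the generic vector. -/
noncomputable def lineIdeal {K : Type*} [Field K] (φ : k →+* K) (G : MvPolynomial (Fin (n + 1)) k)
    (v : Fin (n + 1) → K) : Ideal (MvPolynomial (Fin (n + 1)) K) :=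
  Ideal.span (Set.range fun j : ℕ => (alongLine (C.comp φ) G (fun i => C (v i)) X).coeff j)

theorem alongLine_map {A B : Type*} [CommRing A] [CommRing B] (φ : k →+* A) (q : A →+* B)
    (G : MvPolynomial (Fin (n + 1)) k) (v b : Fin (n + 1) → A) :
    alongLine (q.comp φ) G (fun a => q (v a)) (fun a => q (b a)) = (alongLine φ G v b).map q := by
  rw [alongLine, alongLine, ← Polynomial.coe_mapRingHom]
  have h2 := eval₂_comp_left (Polynomial.mapRingHom q) (Polynomial.C.comp φ)
    (fun a => Polynomial.C (v a) + Polynomial.X * Polynomial.C (b a)) G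
  rw [h2]
  congr 1
  · refine RingHom.ext fun x => ?_
    simp only [RingHom.comp_apply, Polynomial.coe_mapRingHom, Polynomial.map_C]
  · funext a
    simp only [Function.comp_apply, Polynomial.coe_mapRingHom, Polynomial.map_add, Polynomial.map_mul,
      Polynomial.map_C, Polynomial.map_X]

theorem restr_eq_zero {A : Type u} [CommRing A] (φ : k →+* A) (G : LefPen.Form n k d) (v b : Fin (n + 1) → A)
    (h : alongLine φ G.1 v b = 0) : restr φ G v b = 0 := by
  refine eq_zero_of_dehom (K105.ConeDim.isHomogeneous_restr φ G v b) ?_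
  rw [← h, alongLine, restr]
  have h1 := eval₂_comp_left (eval₂Hom Polynomial.C ![1, Polynomial.X] : MvPolynomial (Fin 2) A →+* Polynomial A)
    (C.comp φ) (lin v b) G.1
  change eval₂Hom Polynomial.C ![1, Polynomial.X] _ = _
  rw [h1]
  congr 1
  · refine RingHom.ext fun x => ?_
    simp only [RingHom.comp_apply, coe_eval₂Hom, eval₂_C]
  · funext a
    simp only [Function.comp_apply, lin, coe_eval₂Hom, eval₂_add, eval₂_mul, eval₂_C, eval₂_X,
      Matrix.cons_val_zero, Matrix.cons_val_one, mul_one]
    rw [mul_comm (Polynomial.C (b a))]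

/-- Changing the direction by a multiple of the base point. -/
theorem restr_sub {A : Type u} [CommRing A] (φ : k →+* A) (G : LefPen.Form n k d) (v b : Fin (n + 1) → A) (c : A)
    (h : restr φ G v b = 0) : restr φ G v (fun i => b i - c * v i) = 0 := by
  have h1 := eval₂_comp_left (eval₂Hom C ![X 0 - C c * X 1, X 1] : MvPolynomial (Fin 2) A →+* MvPolynomial (Fin 2) A)
    (C.comp φ) (lin v b) G.1
  have h2 : (eval₂Hom C ![X 0 - C c * X 1, X 1] : MvPolynomial (Fin 2) A →+* MvPolynomial (Fin 2) A)
      (restr φ G v b) = restr φ G v (fun i => b i - c * v i) := by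
    rw [restr, h1, restr]
    congr 1
    · ext x
      simp
    · funext a
      simp [lin]
      ring
  rw [← h2, h, map_zero]

/-- Rescaling the base point. -/
theorem restr_smul {A : Type u} [CommRing A] (φ : k →+* A) (G : LefPen.Form n k d) (v b : Fin (n + 1) → A) (c : A)
    (h : restr φ G v b = 0) : restr φ G (fun i => c * v i) b = 0 := by
  have h1 := eval₂_comp_left (eval₂Hom C ![C c * X 0, X 1] : MvPolynomial (Fin 2) A →+* MvPolynomial (Fin 2) A)
    (C.comp φ) (lin v b) G.1
  have h2 : (eval₂Hom C ![C c * X 0, X 1] : MvPolynomial (Fin 2) A →+* MvPolynomial (Fin 2) A)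
      (restr φ G v b) = restr φ G (fun i => c * v i) b := by
    rw [restr, h1, restr]
    congr 1
    · ext x
      simp
    · funext a
      simp [lin]
      ring
  rw [← h2, h, map_zero]

/-- A surjection onto the coordinate ring of the cone of lines. -/
theorem exists_surjective (G : LefPen.Form n k d) (v : Fin (n + 1) → k) (i : Fin (n + 1)) (hi : v i ≠ 0)
    {Q : Type u} [CommRing Q] (q : MvPolynomial (Fin (n + 1)) k →+* Q) (hq : Function.Surjective q)
    (hline : alongLine (q.comp C) G.1 (fun a => q (C (v a))) (fun a => q (X a)) = 0) :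
    ∃ Θ : Polynomial (MvPolynomial (Fin (n + 1)) k ⧸ coneIdeal G i (fun a => (v i)⁻¹ * v a)) →+* Q,
      Function.Surjective Θ := by
  set u : Fin (n + 1) → k := fun a => (v i)⁻¹ * v a with hu
  let w : Fin (n + 1) → Q := fun a => q (X a) - (q (C (v i)⁻¹) * q (X i)) * q (C (v a))
  have hr : restr (q.comp C) G (fun a => q (C (u a))) w = 0 := by
    have h1 := restr_sub _ _ _ _ (q (C (v i)⁻¹) * q (X i)) (restr_eq_zero _ _ _ _ hline)
    have h2 := restr_smul _ _ _ _ (q (C (v i)⁻¹)) h1
    have h3 : (fun a => q (C (u a))) = fun a => q (C (v i)⁻¹) * q (C (v a)) := by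
      funext a
      rw [hu, C_mul, map_mul]
    rw [h3]
    exact h2
  let ψ : MvPolynomial (Fin (n + 1)) k →+* Q := eval₂Hom (q.comp C) w
  have hψC : ∀ r, ψ (C r) = q (C r) := fun r => by simp only [ψ, coe_eval₂Hom, eval₂_C, RingHom.comp_apply]
  have hψX : ∀ a, ψ (X a) = w a := fun a => by simp only [ψ, coe_eval₂Hom, eval₂_X]
  have hψ : ∀ a ∈ coneIdeal G i u, ψ a = 0 := by
    intro a ha
    have h1 : coneIdeal G i u ≤ RingHom.ker ψ := by
      refine Ideal.span_le.2 ?_
      rintro p (hp | ⟨e, rfl⟩)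
      · rw [Set.mem_singleton_iff] at hp
        subst hp
        change ψ (X i) = 0
        rw [hψX]
        change q (X i) - (q (C (v i)⁻¹) * q (X i)) * q (C (v i)) = 0
        rw [mul_right_comm, ← map_mul, ← C_mul, inv_mul_cancel₀ hi, C_1, map_one, one_mul, sub_self]
      · change ψ (coeff e _) = 0
        have h2 := map_restr C ψ G (fun a => C (u a)) X
        have h3 : ψ.comp C = q.comp C := RingHom.ext fun x => hψC x
        have h4 : (ψ ∘ fun a => (C (u a) : MvPolynomial (Fin (n + 1)) k)) = fun a => q (C (u a)) :=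
          funext fun a => hψC _
        have h5 : (ψ ∘ (X : Fin (n + 1) → MvPolynomial (Fin (n + 1)) k)) = w := funext fun a => hψX a
        rw [h3, h4, h5, hr] at h2
        rw [← coeff_map, h2, coeff_zero]
    exact h1 ha
  refine ⟨Polynomial.eval₂RingHom (Ideal.Quotient.lift _ ψ hψ) (q (X i)), ?_⟩
  intro y
  obtain ⟨p, rfl⟩ := hq y
  induction p using MvPolynomial.induction_on with
  | C r =>
    refine ⟨Polynomial.C (Ideal.Quotient.mk _ (C r)), ?_⟩
    rw [Polynomial.coe_eval₂RingHom, Polynomial.eval₂_C, Ideal.Quotient.lift_mk, hψC]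
  | add a b ha hb =>
    obtain ⟨a', ha'⟩ := ha
    obtain ⟨b', hb'⟩ := hb
    exact ⟨a' + b', by rw [map_add, map_add, ha', hb']⟩
  | mul_X p a hp =>
    obtain ⟨p', hp'⟩ := hp
    have h1 : (Polynomial.eval₂RingHom (Ideal.Quotient.lift _ ψ hψ) (q (X i)))
        (Polynomial.C (Ideal.Quotient.mk _ (X a)) +
          Polynomial.C (Ideal.Quotient.mk _ (C (v i)⁻¹ * C (v a))) * Polynomial.X) = q (X a) := by
      rw [Polynomial.coe_eval₂RingHom, Polynomial.eval₂_add, Polynomial.eval₂_mul, Polynomial.eval₂_C,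
        Polynomial.eval₂_C, Polynomial.eval₂_X, Ideal.Quotient.lift_mk, Ideal.Quotient.lift_mk, map_mul, hψC, hψC,
        hψX]
      change q (X a) - (q (C (v i)⁻¹) * q (X i)) * q (C (v a)) + _ = _
      ring
    exact ⟨p' * (Polynomial.C (Ideal.Quotient.mk _ (X a)) +
      Polynomial.C (Ideal.Quotient.mk _ (C (v i)⁻¹ * C (v a))) * Polynomial.X), by rw [map_mul, hp', h1, map_mul]⟩

/-- Node H1, for one form. -/
theorem ringKrullDim_le (hdn : d ≤ n) {G : LefPen.Form n k d} (hG : Good G) (v : Fin (n + 1) → k) (hv : v ≠ 0)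
    (h0 : eval v G.1 = 0) :
    ringKrullDim (MvPolynomial (Fin (n + 1)) k ⧸ lineIdeal (RingHom.id k) G.1 v) ≤
      ((n + 1 - d : ℕ) : WithBot ℕ∞) := by
  obtain ⟨i, hi⟩ := Function.ne_iff.1 hv
  rw [Pi.zero_apply] at hi
  have hu0 : eval (fun a => (v i)⁻¹ * v a) G.1 = 0 := by
    have h1 : eval (fun a => (v i)⁻¹ * v a) G.1 = (v i)⁻¹ ^ d * eval v G.1 := by
      have h2 := K105.ConeDim.eval₂_mul_of_isHomogeneous (RingHom.id k) v ((v i)⁻¹)
        ((mem_homogeneousSubmodule _ _).1 G.2)
      rw [mul_comm]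
      have h3 : (fun a => (v i)⁻¹ * v a) = fun a => v a * (v i)⁻¹ := funext fun a => mul_comm _ _
      rw [h3]
      exact h2
    rw [h1, h0, mul_zero]
  have key := hG i _ (inv_mul_cancel₀ hi) hu0
  obtain ⟨Θ, hΘ⟩ := exists_surjective G v i hi (Ideal.Quotient.mk (lineIdeal (RingHom.id k) G.1 v))
    Ideal.Quotient.mk_surjective (by
      have h1 := alongLine_map (C : k →+* MvPolynomial (Fin (n + 1)) k)
        (Ideal.Quotient.mk (lineIdeal (RingHom.id k) G.1 v)) G.1 (fun a => C (v a)) X
      rw [h1]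
      ext j
      rw [Polynomial.coeff_map, Polynomial.coeff_zero]
      exact Ideal.Quotient.eq_zero_iff_mem.2 (Ideal.subset_span ⟨j, rfl⟩))
  have hle := ringKrullDim_le_of_surjective
    (R := Polynomial (MvPolynomial (Fin (n + 1)) k ⧸ coneIdeal G i (fun a => (v i)⁻¹ * v a)))
    (S := MvPolynomial (Fin (n + 1)) k ⧸ lineIdeal (RingHom.id k) G.1 v) Θ hΘ
  refine hle.trans ?_
  rw [Polynomial.ringKrullDim_of_isNoetherianRing]
  refine (add_le_add_left key 1).trans (le_of_eq ?_)
  have : n + 1 - d = (n - d) + 1 := by omega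
  rw [this]
  push_cast
  rfl

/-- Node H1. -/
theorem isGeneric [IsAlgClosed k] (hd : 1 ≤ d) (hdn : d + 3 ≤ n) :
    LefPen.IsGeneric k {G : LefPen.Form n k d | ∀ v : Fin (n + 1) → k, v ≠ 0 → eval v G.1 = 0 →
      ringKrullDim (MvPolynomial (Fin (n + 1)) k ⧸ lineIdeal (RingHom.id k) G.1 v) ≤
        ((n + 1 - d : ℕ) : WithBot ℕ∞)} := by
  obtain ⟨f, hf, hf0, h⟩ := K105.ConeDim.isGeneric_good (k := k) (n := n) hd hdn
  exact ⟨f, hf, hf0, fun G hG v hv h0 => ringKrullDim_le (by omega) (h G hG) v hv h0⟩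

end K948.FanoConeDim
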